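import Cfsg.Agent.J4Rep94.P7
import Cfsg.Agent.J4Rep94.Orbit

/-!
# Certificate data
-/

set_option autoImplicit false
set_option maxRecDepth 100000

namespace Cfsg.Agent.J4Rep94.C23

open Cfsg.Agent.CosetEnum

def fxL0 : ℕ := 0x1800000001e0c000f4000ec6000d400074300074000391800398001c0c001c8000dc6000e20006c300075000350800358000c08001a8001d000007a000d41000750007000003a0003984001cc001c80000e4000e2200071000700000380003788001bc001b80000dc000da10006d0006c0000360003588001ac0005c2000d4000d20000690006810003400033800019c001982000cc000ca0000650006410003200031800018c001882000c4000c2000061000600800300002f800017c001784000bc000ba00005d0005c08002e0002d800016c001684000b4000b20000590005808002c0002b800015c001584000ac000aa0000550005408002a00029800014c001482000a4000a20000510005010002800027800013c0013820009c0009a00004d0004c10002600025800012c00128200094000920000490004810002400023800011c0011820008c0008a0000450004408002200021800010c0010840008400082000041000400800200001f80000fc000f840007c0001210003d0000010001e0001d80000ec000e8400074000720000390003808001c0001b80000dc000d8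20006c0006a0000350003410001a0001980000cc000c820006400062000031000301000180001780000bc000b820005c0005a00002d0002c0800160001580000ac000a8400054000520000290002808001400013800009c0009820004c0004a0000250002410001200011800008c0008820004400042000021000200800100000f800007c0007840003c0003a00001d0001c10000e0000d800006c00068200034000320000190001808000c0000b800005c0005840002c0002a0000150001408000a00009800004c00048400024000220000110001008000800007800003c0003820001c0001a00000d0000c10000600005800002c00028200014000120000090000808000400003800001c0001840000c0000a0000050000408000200001800000c000082000040000200000100000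
def fx : PTree := (.leaf fxL0)
def rules0 : DTree Rule := (.node 4 (.node 2 (.node 1 (.leaf ⟨0, [0,1,0,1,0,2,0,1,0,2,0,1,0,2,0,1,0,1,0,2,0,1,0,2,0,1,0,2,0,1,0,1,0,2,0,1,0,2,0,1,0,2,0,1,0,1,0,2,0,1,0,2,0,1], [1], false, 7, 0⟩) (.leaf ⟨2, [0,1,0,1,0,2,0,1,0,1,0,2,0,1,0,1,0,2,0,1,0,2,0,2,0,1,0,2,0,2,0,1,0], [1,0], false, 8, 0⟩)) (.node 1 (.leaf ⟨1, [1], [2], false, 3, 0⟩) (.leaf ⟨3, [0,1,0,1,0,2,0,1,0,1,0,2,0,1,0,1,0,2,0,1,0,2,0], [1,0,1,0,2,0,1,0,1,0,2,0,1], false, 8, 0⟩))) (.node 2 (.node 1 (.leaf ⟨3, [1], [2,2], false, 3, 0⟩) (.leaf ⟨3, [0], [0], false, 0, 0⟩)) (.node 1 (.leaf ⟨3, [1], [1], false, 1, 0⟩) (.leaf ⟨3, [2], [2], false, 2, 0⟩))))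
def rules : DTree Rule := rules0
def sys : Sys := ⟨3, 0x18440, fx, rules⟩
def rels : List (List ℕ) := baseRels ++ []
def subs : List (List ℕ) := []

end Cfsg.Agent.J4Rep94.C23
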